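import Mathlib
import Groth.Agent.Lib.Helper5.WeilP.Alg
import Groth.Agent.Lib.Helper5.HomAff.WeilFT

/-!
# The Weil restriction algebra of a finitely presented algebra is finitely presented (helper5)
-/
set_option autoImplicit false
universe u
open TensorProduct

namespace Groth.Agent.Lib.Helper5.HomFP

open Groth.Agent.Lib.Helper5.WeilP Groth.Agent.Lib.Helper5.HomAff

section Alg
variable {R : Type u} [CommRing R] {C : Type u} [CommRing C] [Algebra R C]
  {n : ℕ} (c : Fin n → C) (ℓ : Fin n → C →ₗ[R] R) (hc : ∀ x : C, ∑ k, ℓ k x • c k = x)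
  (B : Type u) [CommRing B] [Algebra R B]
  {N : ℕ} (π : MvPolynomial (Fin N) R →ₐ[R] B) (hπ : Function.Surjective π)
  (G : Finset (MvPolynomial (Fin N) R)) (hG : Ideal.span (G : Set (MvPolynomial (Fin N) R)) =
    RingHom.ker π.toRingHom)

/-- the generic map `R[x_i] → R[y_{i,k}] ⊗ C`. -/
noncomputable def Ut : MvPolynomial (Fin N) R →ₐ[R] (MvPolynomial (Fin N × Fin n) R) ⊗[R] C :=
  MvPolynomial.aeval (fun i => ∑ k, (MvPolynomial.X (i, k) : MvPolynomial (Fin N × Fin n) R) ⊗ₜ[R] c k)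

theorem Ut_X (i : Fin N) :
    Ut (N := N) c (MvPolynomial.X i)
      = ∑ k, (MvPolynomial.X (i, k) : MvPolynomial (Fin N × Fin n) R) ⊗ₜ[R] c k := by
  simp [Ut]

/-- the finite set of relations -/
noncomputable def relSet : Set (MvPolynomial (Fin N × Fin n) R) :=
  { d | ∃ p ∈ G, ∃ k : Fin n, d = coord ℓ (MvPolynomial (Fin N × Fin n) R) k (Ut (N := N) c p) } ∪
    { d | ∃ (i : Fin N) (k : Fin n), d = MvPolynomial.X (i, k)
      - ∑ j, ℓ k (c j) • (MvPolynomial.X (i, j) : MvPolynomial (Fin N × Fin n) R) }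

theorem relSet_finite : (relSet c ℓ G).Finite := by
  classical
  apply Set.Finite.union
  · have : { d | ∃ p ∈ G, ∃ k : Fin n,
        d = coord ℓ (MvPolynomial (Fin N × Fin n) R) k (Ut (N := N) c p) } =
        (fun pk : MvPolynomial (Fin N) R × Fin n =>
          coord ℓ (MvPolynomial (Fin N × Fin n) R) pk.2 (Ut (N := N) c pk.1)) ''
          ((G : Set (MvPolynomial (Fin N) R)) ×ˢ Set.univ) := by
      ext d
      constructor
      · rintro ⟨p, hp, k, rfl⟩
        exact ⟨(p, k), ⟨hp, Set.mem_univ _⟩, rfl⟩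
      · rintro ⟨⟨p, k⟩, ⟨hp, -⟩, rfl⟩
        exact ⟨p, hp, k, rfl⟩
    rw [this]
    exact (G.finite_toSet.prod Set.finite_univ).image _
  · have : { d | ∃ (i : Fin N) (k : Fin n), d = MvPolynomial.X (i, k)
        - ∑ j, ℓ k (c j) • (MvPolynomial.X (i, j) : MvPolynomial (Fin N × Fin n) R) } =
        Set.range (fun ik : Fin N × Fin n => MvPolynomial.X (ik.1, ik.2)
          - ∑ j, ℓ ik.2 (c j) • (MvPolynomial.X (ik.1, j) : MvPolynomial (Fin N × Fin n) R)) := by
      ext d
      constructor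
      · rintro ⟨i, k, rfl⟩
        exact ⟨(i, k), rfl⟩
      · rintro ⟨⟨i, k⟩, rfl⟩
        exact ⟨i, k, rfl⟩
    rw [this]
    exact Set.finite_range _

/-- the ideal of relations -/
noncomputable def Jf : Ideal (MvPolynomial (Fin N × Fin n) R) := Ideal.span (relSet c ℓ G)

theorem Jf_fg : (Jf c ℓ G).FG := ⟨(relSet_finite c ℓ G).toFinset, by
  rw [Set.Finite.coe_toFinset]; rfl⟩

/-- the finitely presented model -/
abbrev Wf : Type u := MvPolynomial (Fin N × Fin n) R ⧸ Jf c ℓ G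

noncomputable abbrev qf : MvPolynomial (Fin N × Fin n) R →ₐ[R] Wf c ℓ G :=
  Ideal.Quotient.mkₐ R (Jf c ℓ G)

instance : Algebra.FinitePresentation R (Wf c ℓ G) :=
  Algebra.FinitePresentation.quotient (Jf_fg c ℓ G)

end Alg

section Maps
variable {R : Type u} [CommRing R] {C : Type u} [CommRing C] [Algebra R C]
  {n : ℕ} (c : Fin n → C) (ℓ : Fin n → C →ₗ[R] R) (hc : ∀ x : C, ∑ k, ℓ k x • c k = x)
  (B : Type u) [CommRing B] [Algebra R B]
  {N : ℕ} (π : MvPolynomial (Fin N) R →ₐ[R] B) (hπ : Function.Surjective π)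
  (G : Finset (MvPolynomial (Fin N) R)) (hG : Ideal.span (G : Set (MvPolynomial (Fin N) R)) =
    RingHom.ker π.toRingHom)

/-- the map `R[y] → WB` -/
noncomputable def thetaT : MvPolynomial (Fin N × Fin n) R →ₐ[R] WB c ℓ B :=
  MvPolynomial.aeval (fun ik : Fin N × Fin n =>
    qW c ℓ B (MvPolynomial.X (π (MvPolynomial.X ik.1), ik.2)))

include hc in
theorem thetaT_comp :
    (Algebra.TensorProduct.map (thetaT c ℓ B π) (AlgHom.id R C)).comp (Ut (N := N) c)
      = (uHom c ℓ hc B).comp π := by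
  apply MvPolynomial.algHom_ext
  intro i
  simp only [AlgHom.comp_apply, Ut_X, map_sum, Algebra.TensorProduct.map_tmul, AlgHom.coe_id,
    id_eq]
  rw [uHom_apply]
  simp only [thetaT, MvPolynomial.aeval_X]

include hc hG in
theorem thetaT_kills : ∀ d ∈ Jf c ℓ G, thetaT c ℓ B π d = 0 := by
  intro d hd
  have : Jf c ℓ G ≤ RingHom.ker (thetaT c ℓ B π).toRingHom := by
    rw [Jf, Ideal.span_le]
    rintro _ (⟨p, hp, k, rfl⟩ | ⟨i, k, rfl⟩)
    · rw [SetLike.mem_coe, RingHom.mem_ker]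
      change thetaT c ℓ B π _ = 0
      rw [← coord_map ℓ (thetaT c ℓ B π) (Ut (N := N) c p) k]
      have h1 : Algebra.TensorProduct.map (thetaT c ℓ B π) (AlgHom.id R C) (Ut (N := N) c p)
          = uHom c ℓ hc B (π p) := congrArg (fun f => f p) (thetaT_comp c ℓ hc B π)
      rw [h1]
      have h2 : π p = 0 := by
        have : p ∈ RingHom.ker π.toRingHom := by
          rw [← hG]
          exact Ideal.subset_span hp
        exact this
      rw [h2, map_zero, map_zero]
    · rw [SetLike.mem_coe, RingHom.mem_ker]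
      change thetaT c ℓ B π _ = 0
      rw [map_sub, sub_eq_zero, map_sum]
      simp only [map_smul, thetaT, MvPolynomial.aeval_X]
      rw [qW_rel]
  exact this hd

/-- the map `Wf → WB` -/
noncomputable def thetaW : Wf c ℓ G →ₐ[R] WB c ℓ B :=
  Ideal.Quotient.liftₐ (Jf c ℓ G) (thetaT c ℓ B π) (thetaT_kills c ℓ hc B π G hG)

theorem thetaW_q : (thetaW c ℓ hc B π G hG).comp (qf c ℓ G) = thetaT c ℓ B π := by
  ext x
  simp [thetaW, qf]

include hc hG in
/-- the relations hold in `Wf ⊗ C` -/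
theorem ker_le_f : RingHom.ker π.toRingHom ≤
    RingHom.ker ((Algebra.TensorProduct.map (qf c ℓ G) (AlgHom.id R C)).comp
      (Ut (N := N) c)).toRingHom := by
  rw [← hG, Ideal.span_le]
  intro p hp
  rw [SetLike.mem_coe, RingHom.mem_ker]
  change (Algebra.TensorProduct.map (qf c ℓ G) (AlgHom.id R C)) (Ut (N := N) c p) = 0
  rw [expand c ℓ hc (Ut (N := N) c p), map_sum]
  refine Finset.sum_eq_zero fun k _ => ?_
  rw [Algebra.TensorProduct.map_tmul]
  have : qf c ℓ G (coord ℓ (MvPolynomial (Fin N × Fin n) R) k (Ut (N := N) c p)) = 0 := by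
    change Ideal.Quotient.mk _ _ = 0
    rw [Ideal.Quotient.eq_zero_iff_mem]
    exact Ideal.subset_span (Or.inl ⟨p, hp, k, rfl⟩)
  rw [this, TensorProduct.zero_tmul]

theorem qf_rel (i : Fin N) (k : Fin n) :
    qf c ℓ G (MvPolynomial.X (i, k))
      = ∑ j, ℓ k (c j) • qf c ℓ G (MvPolynomial.X (i, j)) := by
  have h : qf c ℓ G (MvPolynomial.X (i, k)
      - ∑ j, ℓ k (c j) • (MvPolynomial.X (i, j) : MvPolynomial (Fin N × Fin n) R)) = 0 := by
    change Ideal.Quotient.mk _ _ = 0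
    rw [Ideal.Quotient.eq_zero_iff_mem]
    exact Ideal.subset_span (Or.inr ⟨i, k, rfl⟩)
  rw [map_sub, sub_eq_zero, map_sum] at h
  rw [h]
  refine Finset.sum_congr rfl fun j _ => ?_
  rw [map_smul]

/-- the universal map `B → Wf ⊗ C` -/
noncomputable def psiF : B →ₐ[R] (Wf c ℓ G) ⊗[R] C :=
  (Ideal.Quotient.liftₐ (RingHom.ker π.toRingHom)
    ((Algebra.TensorProduct.map (qf c ℓ G) (AlgHom.id R C)).comp (Ut (N := N) c))
    (fun a ha => ker_le_f c ℓ hc B π G hG ha)).comp
    (Ideal.quotientKerAlgEquivOfSurjective hπ).symm.toAlgHom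

theorem psiF_pi (p : MvPolynomial (Fin N) R) :
    psiF c ℓ hc B π hπ G hG (π p)
      = Algebra.TensorProduct.map (qf c ℓ G) (AlgHom.id R C) (Ut (N := N) c p) := by
  have h1 : (Ideal.quotientKerAlgEquivOfSurjective hπ).symm (π p)
      = Ideal.Quotient.mk (RingHom.ker π.toRingHom) p := by
    rw [AlgEquiv.symm_apply_eq]
    rfl
  change (Ideal.Quotient.liftₐ (RingHom.ker π.toRingHom)
    ((Algebra.TensorProduct.map (qf c ℓ G) (AlgHom.id R C)).comp (Ut (N := N) c))
    (fun a ha => ker_le_f c ℓ hc B π G hG ha))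
    ((Ideal.quotientKerAlgEquivOfSurjective hπ).symm (π p)) = _
  rw [h1]
  rfl

end Maps

section Equiv
variable {R : Type u} [CommRing R] {C : Type u} [CommRing C] [Algebra R C]
  {n : ℕ} (c : Fin n → C) (ℓ : Fin n → C →ₗ[R] R) (hc : ∀ x : C, ∑ k, ℓ k x • c k = x)
  (B : Type u) [CommRing B] [Algebra R B]
  {N : ℕ} (π : MvPolynomial (Fin N) R →ₐ[R] B) (hπ : Function.Surjective π)
  (G : Finset (MvPolynomial (Fin N) R)) (hG : Ideal.span (G : Set (MvPolynomial (Fin N) R)) =
    RingHom.ker π.toRingHom)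

theorem thetaW_psiF :
    (Algebra.TensorProduct.map (thetaW c ℓ hc B π G hG) (AlgHom.id R C)).comp
      (psiF c ℓ hc B π hπ G hG) = uHom c ℓ hc B := by
  ext b
  obtain ⟨p, rfl⟩ := hπ b
  rw [AlgHom.comp_apply, psiF_pi]
  have h1 : Algebra.TensorProduct.map (thetaT c ℓ B π) (AlgHom.id R C) (Ut (N := N) c p)
      = uHom c ℓ hc B (π p) := congrArg (fun f => f p) (thetaT_comp c ℓ hc B π)
  rw [← h1, ← thetaW_q c ℓ hc B π G hG]
  rw [← AlgHom.comp_apply, ← Algebra.TensorProduct.map_comp]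
  rfl

theorem thetaW_phiW :
    (thetaW c ℓ hc B π G hG).comp (phiW c ℓ hc (psiF c ℓ hc B π hπ G hG))
      = AlgHom.id R (WB c ℓ B) := by
  apply phiW_unique c ℓ hc
  have h1 : Algebra.TensorProduct.map
      ((thetaW c ℓ hc B π G hG).comp (phiW c ℓ hc (psiF c ℓ hc B π hπ G hG))) (AlgHom.id R C)
      = (Algebra.TensorProduct.map (thetaW c ℓ hc B π G hG) (AlgHom.id R C)).comp
        (Algebra.TensorProduct.map (phiW c ℓ hc (psiF c ℓ hc B π hπ G hG)) (AlgHom.id R C)) := by
    rw [← Algebra.TensorProduct.map_comp]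
    rfl
  rw [h1, AlgHom.comp_assoc, phiW_spec, thetaW_psiF]
  ext b
  simp

theorem phiW_thetaW :
    (phiW c ℓ hc (psiF c ℓ hc B π hπ G hG)).comp (thetaW c ℓ hc B π G hG)
      = AlgHom.id R (Wf c ℓ G) := by
  have h2 : ((phiW c ℓ hc (psiF c ℓ hc B π hπ G hG)).comp (thetaW c ℓ hc B π G hG)).comp
      (qf c ℓ G) = qf c ℓ G := by
    apply MvPolynomial.algHom_ext
    rintro ⟨i, k⟩
    rw [AlgHom.comp_apply, AlgHom.comp_apply]
    have e1 : thetaW c ℓ hc B π G hG (qf c ℓ G (MvPolynomial.X (i, k)))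
        = qW c ℓ B (MvPolynomial.X (π (MvPolynomial.X i), k)) := by
      have := congrArg (fun f => f (MvPolynomial.X (i, k))) (thetaW_q c ℓ hc B π G hG)
      simp only [AlgHom.comp_apply] at this
      rw [this]
      simp only [thetaT, MvPolynomial.aeval_X]
    rw [e1]
    have e2 : phiW c ℓ hc (psiF c ℓ hc B π hπ G hG)
        (qW c ℓ B (MvPolynomial.X (π (MvPolynomial.X i), k)))
        = coord ℓ (Wf c ℓ G) k (psiF c ℓ hc B π hπ G hG (π (MvPolynomial.X i))) := by
      have := congrArg (fun f => f (MvPolynomial.X (π (MvPolynomial.X i), k)))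
        (phiW_q c ℓ hc (psiF c ℓ hc B π hπ G hG))
      simp only [AlgHom.comp_apply] at this
      rw [this]
      simp only [phiT, MvPolynomial.aeval_X]
    rw [e2, psiF_pi, Ut_X, map_sum]
    simp only [Algebra.TensorProduct.map_tmul, AlgHom.coe_id, id_eq]
    rw [coord_sum, qf_rel]
  ext x
  obtain ⟨y, rfl⟩ := Ideal.Quotient.mk_surjective x
  exact congrArg (fun f => f y) h2

/-- the equivalence between the finitely presented model and `WB` -/
noncomputable def wfEquiv : Wf c ℓ G ≃ₐ[R] WB c ℓ B :=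
  AlgEquiv.ofAlgHom (thetaW c ℓ hc B π G hG) (phiW c ℓ hc (psiF c ℓ hc B π hπ G hG))
    (thetaW_phiW c ℓ hc B π hπ G hG) (phiW_thetaW c ℓ hc B π hπ G hG)

end Equiv

section Final
variable {R : Type u} [CommRing R] {C : Type u} [CommRing C] [Algebra R C]
  {n : ℕ} (c : Fin n → C) (ℓ : Fin n → C →ₗ[R] R) (hc : ∀ x : C, ∑ k, ℓ k x • c k = x)
  (B : Type u) [CommRing B] [Algebra R B]

include hc in
/-- the Weil restriction algebra of a finitely presented algebra is finitely presented. -/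
theorem WB_finitePresentation (hB : Algebra.FinitePresentation R B) :
    Algebra.FinitePresentation R (WB c ℓ B) := by
  classical
  obtain ⟨N, π, hπ, s, hs⟩ := hB.out
  exact Algebra.FinitePresentation.equiv (wfEquiv c ℓ hc B π hπ s hs)

end Final

end Groth.Agent.Lib.Helper5.HomFP
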