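import Groth.Agent.Lib.Helper5.WeilP.Main
import Groth.Agent.Lib.Helper5.HomFP.WeilFP2

/-!
# Weil restriction along a finite locally free morphism: finite presentation (helper5)
-/
set_option autoImplicit false
universe u
open CategoryTheory CategoryTheory.Limits AlgebraicGeometry Opposite

namespace Groth.Agent.Lib.Helper5.HomFP

open Groth.Agent.Lib.Helper5.LocRep Groth.Agent.Lib.Helper5.WeilP

/-- local representability of `morS` over an affine scheme mapping to the base, with finite
presentation. -/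
theorem locRep2 {Z X S : Scheme.{u}} (g : Z ⟶ S) (f : X ⟶ S) (hg : Mor2.IsFinLocFree g)
    [IsAffineHom f] [LocallyOfFinitePresentation f] {U : Scheme.{u}} [IsAffine U] (h : U ⟶ S) :
    ∃ W : Over U, IsAffine W.left ∧ LocallyOfFinitePresentation W.hom ∧
      Nonempty (((Over.map h).op ⋙ Flatn.morS g f).RepresentableBy W) := by
  obtain ⟨hg1, hg2, hg3⟩ := hg
  haveI := hg1
  haveI := hg2
  haveI := hg3
  haveI : IsAffine (pullback g h) := isAffine_of_isAffineHom (pullback.snd g h)
  haveI : IsAffine (pullback f h) := isAffine_of_isAffineHom (pullback.snd f h)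
  obtain ⟨W, hW, -, hfp, ⟨r⟩⟩ := representableP2 (pullback.snd g h) (pullback.snd f h)
    (proj_of_finLocFree (pullback.snd g h))
  exact ⟨W, hW, hfp inferInstance, ⟨repOfBC g f h W r⟩⟩

/-- Weil restriction along a finite locally free morphism of an affine morphism of finite
presentation. -/
theorem weil_global2 {Z X S : Scheme.{u}} (g : Z ⟶ S) (f : X ⟶ S) (hg : Mor2.IsFinLocFree g)
    [IsAffineHom f] [LocallyOfFinitePresentation f] :
    ∃ W : Over S, IsAffineHom W.hom ∧ LocallyOfFinitePresentation W.hom ∧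
      Nonempty ((Flatn.morS g f).RepresentableBy W) := by
  let 𝒰 : Scheme.OpenCover.{u} S := S.affineCover
  haveI : ∀ i, IsAffine (𝒰.X i) := fun i => by
    change IsAffine (S.affineCover.X i)
    infer_instance
  have hloc : ∀ i, ∃ W : Over (𝒰.X i), IsAffine W.left ∧ LocallyOfFinitePresentation W.hom ∧
      Nonempty (((Over.map (𝒰.f i)).op ⋙ Flatn.morS g f).RepresentableBy W) :=
    fun i => locRep2 g f hg (𝒰.f i)
  choose W hWaff hWfp hWrep using hloc
  obtain ⟨E, ⟨r⟩, hE⟩ := representable_of_local (morS_isLocSheaf g f 𝒰) W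
    (fun i => (hWrep i).some)
  refine ⟨E, ?_, ?_, ⟨r⟩⟩
  · rw [IsZariskiLocalAtTarget.iff_of_openCover (P := @IsAffineHom) 𝒰]
    intro i
    obtain ⟨ei⟩ := hE i
    haveI h0 : IsAffine ((Over.forget (𝒰.X i)).obj (W i)) := hWaff i
    haveI : IsAffine (pullback (𝒰.f i) E.hom) :=
      IsAffine.of_isIso (Y := (Over.forget (𝒰.X i)).obj (W i)) ((Over.forget _).mapIso ei).hom
    haveI : IsAffine (pullback E.hom (𝒰.f i)) :=
      IsAffine.of_isIso (pullbackSymmetry E.hom (𝒰.f i)).hom
    change IsAffineHom (pullback.snd E.hom (𝒰.f i))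
    infer_instance
  · rw [IsZariskiLocalAtTarget.iff_of_openCover (P := @LocallyOfFinitePresentation) 𝒰]
    intro i
    obtain ⟨ei⟩ := hE i
    change LocallyOfFinitePresentation (pullback.snd E.hom (𝒰.f i))
    have hw : (ei.hom.left : pullback (𝒰.f i) E.hom ⟶ (W i).left) ≫ (W i).hom
        = pullback.fst (𝒰.f i) E.hom := Over.w ei.hom
    haveI : IsIso (ei.hom.left : pullback (𝒰.f i) E.hom ⟶ (W i).left) :=
      inferInstanceAs (IsIso ((Over.forget _).map ei.hom))
    have h1 : pullback.snd E.hom (𝒰.f i) = (pullbackSymmetry E.hom (𝒰.f i)).hom ≫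
        (ei.hom.left : pullback (𝒰.f i) E.hom ⟶ (W i).left) ≫ (W i).hom := by
      rw [hw, pullbackSymmetry_hom_comp_fst]
    rw [h1]
    haveI := hWfp i
    infer_instance

end Groth.Agent.Lib.Helper5.HomFP
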