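import Groth.Agent.Lib.Helper5.HomFP.Main
import Groth.Agent.Lib.Helper5.HomFP.LfpComp

/-!
# The scheme of homomorphisms from a finite locally free group scheme to an affine group scheme
of finite presentation (helper5)
-/
set_option autoImplicit false
universe u v
open CategoryTheory CategoryTheory.Limits MonoidalCategory CartesianMonoidalCategory MonObj

namespace Groth.Agent.Lib.Helper5.HomFP

section Abstract
variable {C : Type u} [Category.{v} C] [CartesianMonoidalCategory C]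
  (G G' : C) [MonObj G] [MonObj G']

/-- `φ` is multiplicative in the first variable -/
def IsMult {T : C} (φ : G ⊗ T ⟶ G') : Prop :=
  ∀ (X : C) (a b : X ⟶ G) (t : X ⟶ T), lift (a * b) t ≫ φ = (lift a t ≫ φ) * (lift b t ≫ φ)

variable {G G'}

/-- `(g₁, g₂, t) ↦ φ (g₁ g₂, t)` -/
def phiA {T : C} (φ : G ⊗ T ⟶ G') : (G ⊗ G) ⊗ T ⟶ G' := (μ ▷ T) ≫ φ

/-- `(g₁, g₂, t) ↦ φ (g₁, t) φ (g₂, t)` -/
def phiB {T : C} (φ : G ⊗ T ⟶ G') : (G ⊗ G) ⊗ T ⟶ G' :=
  (lift (fst (G ⊗ G) T ≫ fst G G) (snd (G ⊗ G) T) ≫ φ) *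
    (lift (fst (G ⊗ G) T ≫ snd G G) (snd (G ⊗ G) T) ≫ φ)

theorem lift_phiA {T X : C} (φ : G ⊗ T ⟶ G') (a b : X ⟶ G) (t : X ⟶ T) :
    lift (lift a b) t ≫ phiA φ = lift (a * b) t ≫ φ := by
  rw [phiA, ← Category.assoc, lift_whiskerRight, Hom.mul_def]

theorem lift_phiB {T X : C} (φ : G ⊗ T ⟶ G') (a b : X ⟶ G) (t : X ⟶ T) :
    lift (lift a b) t ≫ phiB φ = (lift a t ≫ φ) * (lift b t ≫ φ) := by
  rw [phiB, MonObj.comp_mul, ← Category.assoc, ← Category.assoc]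
  congr 2
  · ext <;> simp
  · ext <;> simp

theorem isMult_iff {T : C} (φ : G ⊗ T ⟶ G') : IsMult G G' φ ↔ phiA φ = phiB φ := by
  constructor
  · intro h
    have h1 := h ((G ⊗ G) ⊗ T) (fst (G ⊗ G) T ≫ fst G G) (fst (G ⊗ G) T ≫ snd G G)
      (snd (G ⊗ G) T)
    have h2 : lift ((fst (G ⊗ G) T ≫ fst G G) * (fst (G ⊗ G) T ≫ snd G G)) (snd (G ⊗ G) T)
        = μ ▷ T := by
      ext
      · rw [lift_fst, whiskerRight_fst, Hom.mul_def, ← comp_lift, lift_fst_snd, Category.comp_id]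
      · rw [lift_snd, whiskerRight_snd]
    rw [h2] at h1
    exact h1
  · intro h X a b t
    rw [← lift_phiA, ← lift_phiB, h]

theorem whisker_phiA {T T' : C} (w : T' ⟶ T) (φ : G ⊗ T ⟶ G') :
    ((G ⊗ G) ◁ w) ≫ phiA φ = phiA ((G ◁ w) ≫ φ) := by
  rw [phiA, phiA, ← Category.assoc, ← Category.assoc, whisker_exchange]

theorem whisker_phiB {T T' : C} (w : T' ⟶ T) (φ : G ⊗ T ⟶ G') :
    ((G ⊗ G) ◁ w) ≫ phiB φ = phiB ((G ◁ w) ≫ φ) := by
  rw [phiB, phiB, MonObj.comp_mul]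
  simp only [← Category.assoc]
  congr 2
  · ext <;> simp
  · ext <;> simp

variable [HasEqualizers C] {H : C} (ev : G ⊗ H ⟶ G')
  (hH : ∀ (T : C) (φ : G ⊗ T ⟶ G'), ∃! v : T ⟶ H, (G ◁ v) ≫ ev = φ)
  {H₂ : C} (ev₂ : (G ⊗ G) ⊗ H₂ ⟶ G')
  (hH₂ : ∀ (T : C) (φ : (G ⊗ G) ⊗ T ⟶ G'), ∃! v : T ⟶ H₂, ((G ⊗ G) ◁ v) ≫ ev₂ = φ)

include hH hH₂ in
theorem exists_homObj :
    ∃ a b : H ⟶ H₂, IsMult G G' ((G ◁ equalizer.ι a b) ≫ ev) ∧
      ∀ (T : C) (φ : G ⊗ T ⟶ G'), IsMult G G' φ →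
        ∃! v : T ⟶ equalizer a b, (G ◁ v) ≫ (G ◁ equalizer.ι a b) ≫ ev = φ := by
  obtain ⟨a, ha, -⟩ := hH₂ H (phiA ev)
  obtain ⟨b, hb, -⟩ := hH₂ H (phiB ev)
  have ha' : ((G ⊗ G) ◁ a) ≫ ev₂ = phiA ev := ha
  have hb' : ((G ⊗ G) ◁ b) ≫ ev₂ = phiB ev := hb
  refine ⟨a, b, ?_, ?_⟩
  · rw [isMult_iff, ← whisker_phiA, ← whisker_phiB, ← ha', ← hb', ← Category.assoc,
      ← Category.assoc, ← MonoidalCategory.whiskerLeft_comp, ← MonoidalCategory.whiskerLeft_comp,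
      equalizer.condition]
  · intro T φ hφ
    obtain ⟨w, hw, hwu⟩ := hH T φ
    have hw' : (G ◁ w) ≫ ev = φ := hw
    have hab : w ≫ a = w ≫ b := by
      have h1 : ((G ⊗ G) ◁ (w ≫ a)) ≫ ev₂ = phiA φ := by
        rw [MonoidalCategory.whiskerLeft_comp, Category.assoc, ha', whisker_phiA, hw']
      have h2 : ((G ⊗ G) ◁ (w ≫ b)) ≫ ev₂ = phiA φ := by
        rw [MonoidalCategory.whiskerLeft_comp, Category.assoc, hb', whisker_phiB, hw',
          (isMult_iff φ).mp hφ]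
      exact (hH₂ T (phiA φ)).unique h1 h2
    refine ⟨equalizer.lift w hab, ?_, ?_⟩
    · change (G ◁ equalizer.lift w hab) ≫ (G ◁ equalizer.ι a b) ≫ ev = φ
      rw [← Category.assoc, ← MonoidalCategory.whiskerLeft_comp, equalizer.lift_ι, hw']
    · intro v' hv'
      change (G ◁ v') ≫ (G ◁ equalizer.ι a b) ≫ ev = φ at hv'
      rw [← Category.assoc, ← MonoidalCategory.whiskerLeft_comp] at hv'
      have := hwu _ hv'
      apply equalizer.hom_ext
      rw [this, equalizer.lift_ι]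

end Abstract

section Scheme
open AlgebraicGeometry

set_option backward.isDefEq.respectTransparency false in
/-- the equalizer of two morphisms to a scheme locally of finite type over `S` is locally of
finite presentation over the source -/
theorem lfp_equalizer_ι_left {S : Scheme.{u}} {X Y : Over S} [LocallyOfFiniteType Y.hom]
    (f g : X ⟶ Y) : LocallyOfFinitePresentation (equalizer.ι f g).left := by
  refine MorphismProperty.of_isPullback
    ((Limits.isPullback_equalizer_prod f g).map (Over.forget _)).flip ?_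
  rw [← MorphismProperty.cancel_right_of_respectsIso @LocallyOfFinitePresentation _
    (Over.prodLeftIsoPullback Y Y).hom]
  convert! (inferInstance : LocallyOfFinitePresentation (pullback.diagonal Y.hom))
  ext1 <;> simp [← Over.comp_left]

/-- **S16790** -/
theorem main_grp {S : Scheme.{u}} (G G' : Over S) [GrpObj G] [GrpObj G']
    (hGf : IsFinite G.hom) (hGfl : Flat G.hom) (hGfp : LocallyOfFinitePresentation G.hom)
    (hG'a : IsAffineHom G'.hom) (hG'fp : LocallyOfFinitePresentation G'.hom) :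
    ∃ (M : Over S) (ev : G ⊗ M ⟶ G'), IsAffineHom M.hom ∧ LocallyOfFinitePresentation M.hom ∧
      (∀ (X : Over S) (a b : X ⟶ G) (m : X ⟶ M),
        lift (a * b) m ≫ ev = (lift a m ≫ ev) * (lift b m ≫ ev)) ∧
      ∀ (T : Over S) (φ : G ⊗ T ⟶ G'),
        (∀ (X : Over S) (a b : X ⟶ G) (t : X ⟶ T),
          lift (a * b) t ≫ φ = (lift a t ≫ φ) * (lift b t ≫ φ)) →
        ∃! v : T ⟶ M, (G ◁ v) ≫ ev = φ := by
  obtain ⟨H, ev, hHa, hHfp, hH⟩ := main G G' hGf hGfl hGfp hG'a hG'fp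
  have hGG : (G ⊗ G).hom = pullback.fst G.hom G.hom ≫ G.hom := rfl
  have h1 : IsFinite (G ⊗ G).hom := by rw [hGG]; infer_instance
  have h2 : Flat (G ⊗ G).hom := by rw [hGG]; infer_instance
  have h3 : LocallyOfFinitePresentation (G ⊗ G).hom := by rw [hGG]; infer_instance
  obtain ⟨H₂, ev₂, hH₂a, hH₂fp, hH₂⟩ := main (G ⊗ G) G' h1 h2 h3 hG'a hG'fp
  obtain ⟨a, b, hmult, huniv⟩ := exists_homObj ev hH ev₂ hH₂
  haveI : IsSeparated H₂.hom := inferInstance
  haveI : LocallyOfFiniteType H₂.hom := inferInstance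
  have hι1 : IsClosedImmersion (equalizer.ι a b).left := inferInstance
  have hι2 : LocallyOfFinitePresentation (equalizer.ι a b).left := lfp_equalizer_ι_left a b
  have hM : (equalizer a b).hom = (equalizer.ι a b).left ≫ H.hom := (Over.w (equalizer.ι a b)).symm
  refine ⟨equalizer a b, (G ◁ equalizer.ι a b) ≫ ev, ?_, ?_, hmult, huniv⟩
  · rw [hM]; infer_instance
  · rw [hM]; infer_instance

end Scheme

end Groth.Agent.Lib.Helper5.HomFP
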