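import Groth.Agent.Lib.Helper5.HomFP.Global

/-!
# The scheme of morphisms from a finite locally free scheme to an affine scheme of finite
presentation (helper5)
-/
set_option autoImplicit false
universe u
open CategoryTheory CategoryTheory.Limits AlgebraicGeometry Opposite MonoidalCategory
  CartesianMonoidalCategory

namespace Groth.Agent.Lib.Helper5.HomFP

section
variable {S : Scheme.{u}} (X Y : Over S)

/-- sections of `morS` as morphisms. -/
abbrev MS (T : Over S) : Type u :=
  (Over.map X.hom).obj ((Over.pullback X.hom).obj T) ⟶ Over.mk Y.hom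

variable {X Y} in
theorem MS_w {T : Over S} (b : MS X Y T) :
    (b.left : pullback T.hom X.hom ⟶ Y.left) ≫ Y.hom = pullback.snd T.hom X.hom ≫ X.hom :=
  Over.w b

variable {X Y} in
theorem MS_ext {T : Over S} (b b' : MS X Y T)
    (h : (b.left : pullback T.hom X.hom ⟶ Y.left) = b'.left) : b = b' := Over.OverMorphism.ext h

/-- make a section from a morphism of schemes. -/
noncomputable def mkMS (T : Over S) (c : pullback T.hom X.hom ⟶ Y.left)
    (hc : c ≫ Y.hom = pullback.snd T.hom X.hom ≫ X.hom) : MS X Y T :=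
  Over.homMk (U := (Over.map X.hom).obj ((Over.pullback X.hom).obj T)) (V := Over.mk Y.hom) c hc

theorem mkMS_left (T : Over S) (c : pullback T.hom X.hom ⟶ Y.left)
    (hc : c ≫ Y.hom = pullback.snd T.hom X.hom ≫ X.hom) : (mkMS X Y T c hc).left = c := rfl

/-- base change of a morphism over `S`. -/
noncomputable def PmapG {T T' : Over S} (t : T' ⟶ T) :
    pullback T'.hom X.hom ⟶ pullback T.hom X.hom :=
  ((Over.map X.hom).map ((Over.pullback X.hom).map t)).left

theorem PmapG_fst {T T' : Over S} (t : T' ⟶ T) :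
    PmapG X t ≫ pullback.fst T.hom X.hom = pullback.fst T'.hom X.hom ≫ t.left := by
  simp only [PmapG, Over.map_map_left, Over.pullback_map_left]
  exact pullback.lift_fst _ _ _

theorem PmapG_snd {T T' : Over S} (t : T' ⟶ T) :
    PmapG X t ≫ pullback.snd T.hom X.hom = pullback.snd T'.hom X.hom := by
  simp only [PmapG, Over.map_map_left, Over.pullback_map_left]
  exact pullback.lift_snd _ _ _

/-- the action of `morS`. -/
noncomputable def actG {T T' : Over S} (t : T' ⟶ T) (b : MS X Y T) : MS X Y T' :=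
  (Flatn.morS X.hom Y.hom).map t.op b

theorem actG_left {T T' : Over S} (t : T' ⟶ T) (b : MS X Y T) :
    ((actG X Y t b).left : pullback T'.hom X.hom ⟶ Y.left) = PmapG X t ≫ b.left := rfl

/-- the swap -/
noncomputable def sw (T : Over S) : pullback X.hom T.hom ⟶ pullback T.hom X.hom :=
  (pullbackSymmetry X.hom T.hom).hom

instance (T : Over S) : IsIso (sw X T) := by unfold sw; infer_instance

theorem sw_fst (T : Over S) : sw X T ≫ pullback.fst T.hom X.hom = pullback.snd X.hom T.hom :=
  pullbackSymmetry_hom_comp_fst _ _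

theorem sw_snd (T : Over S) : sw X T ≫ pullback.snd T.hom X.hom = pullback.fst X.hom T.hom :=
  pullbackSymmetry_hom_comp_snd _ _

/-- the map `Θ_T`. -/
noncomputable def Theta (T : Over S) (b : MS X Y T) : X ⊗ T ⟶ Y :=
  Over.homMk (U := X ⊗ T) (V := Y) (sw X T ≫ b.left) (by
    change (sw X T ≫ b.left) ≫ Y.hom = pullback.fst X.hom T.hom ≫ X.hom
    rw [Category.assoc, MS_w b, ← Category.assoc, sw_snd])

theorem Theta_left (T : Over S) (b : MS X Y T) :
    (Theta X Y T b).left = sw X T ≫ b.left := rfl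

theorem whisker_sw {T T' : Over S} (t : T' ⟶ T) :
    (X ◁ t).left ≫ sw X T = sw X T' ≫ PmapG X t := by
  apply pullback.hom_ext
  · rw [Category.assoc, sw_fst, Category.assoc, PmapG_fst, ← Category.assoc, sw_fst]
    exact Over.whiskerLeft_left_snd t
  · rw [Category.assoc, sw_snd, Category.assoc, PmapG_snd, sw_snd]
    exact Over.whiskerLeft_left_fst t

theorem Theta_nat {T T' : Over S} (t : T' ⟶ T) (b : MS X Y T) :
    (X ◁ t) ≫ Theta X Y T b = Theta X Y T' (actG X Y t b) := by
  apply Over.OverMorphism.ext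
  rw [Over.comp_left, Theta_left, Theta_left, actG_left, ← Category.assoc, whisker_sw,
    Category.assoc]

theorem Theta_bijective (T : Over S) : Function.Bijective (Theta X Y T) := by
  constructor
  · intro b b' h
    apply MS_ext
    have h1 : sw X T ≫ b.left = sw X T ≫ b'.left := congrArg (fun f => f.left) h
    exact (cancel_epi (sw X T)).1 h1
  · intro φ
    have hφ : (φ.left : pullback X.hom T.hom ⟶ Y.left) ≫ Y.hom
        = pullback.fst X.hom T.hom ≫ X.hom := Over.w φ
    refine ⟨mkMS X Y T (inv (sw X T) ≫ φ.left) ?_, ?_⟩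
    · rw [Category.assoc, hφ, IsIso.inv_comp_eq, ← Category.assoc, sw_snd]
    · apply Over.OverMorphism.ext
      rw [Theta_left, mkMS_left, IsIso.hom_inv_id_assoc]

end

section Rep
variable {S : Scheme.{u}} (X Y : Over S) {W : Over S}
  (r : (Flatn.morS X.hom Y.hom).RepresentableBy W)

/-- the composite map `Hom(T, W) → Hom(X ⊗ T, Y)`. -/
noncomputable def Psi (T : Over S) (t : T ⟶ W) : X ⊗ T ⟶ Y :=
  Theta X Y T (r.homEquiv t)

/-- the evaluation morphism. -/
noncomputable def evW : X ⊗ W ⟶ Y := Psi X Y r W (𝟙 W)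

theorem Psi_eq (T : Over S) (t : T ⟶ W) : Psi X Y r T t = (X ◁ t) ≫ evW X Y r := by
  rw [evW, Psi, Psi, Theta_nat]
  congr 1
  have := r.homEquiv_comp t (𝟙 W)
  rw [Category.comp_id] at this
  exact this

theorem Psi_bijective (T : Over S) : Function.Bijective (Psi X Y r T) :=
  (Theta_bijective X Y T).comp r.homEquiv.bijective

theorem existsUnique_lift (T : Over S) (φ : X ⊗ T ⟶ Y) :
    ∃! t : T ⟶ W, (X ◁ t) ≫ evW X Y r = φ := by
  obtain ⟨t, ht⟩ := (Psi_bijective X Y r T).2 φ
  refine ⟨t, ?_, ?_⟩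
  · change (X ◁ t) ≫ evW X Y r = φ
    rw [← Psi_eq, ht]
  intro t' ht'
  change (X ◁ t') ≫ evW X Y r = φ at ht'
  apply (Psi_bijective X Y r T).1
  rw [Psi_eq, Psi_eq, ht', ← Psi_eq, ht]

end Rep

/-- **S16770** -/
theorem main {S : Scheme.{u}} (X Y : Over S)
    (hXf : IsFinite X.hom) (hXfl : Flat X.hom) (hXfp : LocallyOfFinitePresentation X.hom)
    (hYa : IsAffineHom Y.hom) (hYfp : LocallyOfFinitePresentation Y.hom) :
    ∃ (M : Over S) (ev : X ⊗ M ⟶ Y), IsAffineHom M.hom ∧ LocallyOfFinitePresentation M.hom ∧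
      ∀ (T : Over S) (φ : X ⊗ T ⟶ Y), ∃! v : T ⟶ M, (X ◁ v) ≫ ev = φ := by
  obtain ⟨M, hMa, hMfp, ⟨r⟩⟩ := weil_global2 X.hom Y.hom ⟨hXf, hXfl, hXfp⟩
  exact ⟨M, evW X Y r, hMa, hMfp, fun T φ => existsUnique_lift X Y r T φ⟩

end Groth.Agent.Lib.Helper5.HomFP
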